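import Cfsg.Agent.H389.R.W5

/-!
# S3530: one component of linear type, parts c5 - c9 (helper349)
-/

set_option autoImplicit false
set_option linter.unusedSectionVars false

namespace Cfsg.Agent.H389.RSq

open Subgroup
open Cfsg.Agent.H389.JSq (Has)
open Cfsg.Agent.H381.Tools
open Cfsg.Agent.OddOrderLocal.HallPi

universe u

variable {m : ℕ} {σ : Fin 5 → ℕ} {X Y : Type u} [Group X] [Finite X] [Group Y] [Finite Y] {f : X →* Y}
  {D P : Subgroup X} {E K L : Subgroup Y} {H : Set ℕ → Subgroup X}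

namespace C59

theorem card_eq {A K : Subgroup Y} [K.Normal] (h1 : A ⊓ K = ⊥) (h2 : A ⊔ K = ⊤) : Nat.card A = K.index := by
  have h : IsComplement' A K :=
    isComplement'_of_disjoint_and_mul_eq_univ (disjoint_iff.mpr h1) (by
      rw [← mul_normal A K, h2]; rfl)
  exact h.index_eq_card.symm

theorem commute_of_cyclic {A : Subgroup Y} (hA : IsCyclic A) {a b : Y} (ha : a ∈ A) (hb : b ∈ A) : Commute a b := by
  obtain ⟨g, hg⟩ := hA.exists_generator
  obtain ⟨m, hm⟩ := mem_zpowers_iff.mp (hg ⟨a, ha⟩)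
  obtain ⟨n, hn⟩ := mem_zpowers_iff.mp (hg ⟨b, hb⟩)
  have h1 : (g : Y) ^ m = a := by
    have := congrArg Subtype.val hm
    simpa using this
  have h2 : (g : Y) ^ n = b := by
    have := congrArg Subtype.val hn
    simpa using this
  rw [← h1, ← h2]
  exact (Commute.refl (g : Y)).zpow_zpow m n

end C59

theorem M1.c5 (h : M1 m σ f K) {s e : ℕ} (hK : IsL2 s e K) {i j : Fin 5} (hij : i ≠ j) (hi : i ≠ 0) (hj : j ≠ 0)
    (hi' : σ i ∣ K.index) (hj' : σ j ∣ K.index) : False := by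
  have := h.normal
  obtain ⟨A, hAc, hAK, hAK', -, ⟨z, hz, hz3, hAz⟩, -, -⟩ := l2_ext hK h.cent h.index
  have hA := C59.card_eq hAK hAK'
  obtain ⟨a, ha, hao⟩ := exists_mem_of_dvd (X := A) (h.sig.prime i) (hA ▸ hi')
  obtain ⟨b, hb, hbo⟩ := exists_mem_of_dvd (X := A) (h.sig.prime j) (hA ▸ hj')
  have T := h.sig.tri (i := 0) hi.symm hj.symm hij
  exact (h.cl.of_surjective f h.surj).no_comm T (hz3.trans h.sig.zero.symm) hao hbo (mem_cent_iff.mp (hAz ha))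
    (mem_cent_iff.mp (hAz hb)) (C59.commute_of_cyclic hAc ha hb)

theorem M1.c6 (h : M1 m σ f K) {s e : ℕ} (hK : IsL2 s e K) (hs : s ≠ 2) (h3 : ¬ 3 ∣ Nat.card f.ker) {i j w : Fin 5}
    (hij : i ≠ j) (hwi : w ≠ i) (hwj : w ≠ j) (hw0 : w ≠ 0) (hi : σ i ∣ Nat.card f.ker)
    (hj : σ j ∣ Nat.card f.ker) (hw : σ w ∣ K.index) : False := by
  have := h.normal
  obtain ⟨A, hAc, hAK, hAK', -, -, hUU, -⟩ := l2_ext hK h.cent h.index
  obtain ⟨U, g, hU, hU1, hUK, hgK, hgU, hg3, hfree, hAg, -⟩ := hUU hs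
  have hA := C59.card_eq hAK hAK'
  obtain ⟨a, ha, hao⟩ := exists_mem_of_dvd (X := A) (h.sig.prime w) (hA ▸ hw)
  have hKtop : K ≤ (⊤ : Subgroup X).map f := by rw [h.toM0.top_map]; exact le_top
  obtain ⟨P, H, C⟩ := h.toM0.exists_cov hKtop
  have htop : (⊤ ⊓ f.ker : Subgroup X) = f.ker := top_inf_eq _
  have hZ : ¬ 3 ∣ Nat.card (P ⊓ f.ker : Subgroup X) := fun hd =>
    h3 (hd.trans (card_dvd_of_le inf_le_right))
  have hmemU : ∀ {x : K}, x ∈ U.subgroupOf K ↔ (x : Y) ∈ U := mem_subgroupOf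
  obtain ⟨x, hx, hxo, hfx, hfix⟩ := C.pivot_of (h.toM0.hodd ⊤) (IsK.simple h.isK) le_rfl (v := 2) (r := 3)
    Nat.prime_two Nat.prime_three (by norm_num) (U := U.subgroupOf K) (g := ⟨g, hgK⟩)
    (hU.comap_of_injective K.subtype K.subtype_injective) (by
      intro h0
      rw [subgroupOf_eq_bot, disjoint_iff, inf_eq_left.mpr hUK] at h0
      exact hU1 h0) (by
      rw [mem_normalizer_iff]
      intro y
      rw [hmemU, hmemU]
      exact mem_normalizer_iff.mp hgU y) (by rw [← Subgroup.orderOf_coe]; exact hg3) (by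
      rw [eq_bot_iff]
      intro y hy
      rw [mem_fix] at hy
      have h1 : (y : Y) ∈ U ⊓ centralizer {g} := mem_fix.mpr ⟨hy.1, congrArg Subtype.val hy.2⟩
      rw [hfree, mem_bot] at h1
      rw [mem_bot]
      exact Subtype.ext h1) hZ
  have hdvd : ∀ l : Fin 5, l ≠ 0 → σ l ∣ Nat.card f.ker → σ l ∣ Nat.card (centralizer {x} ⊓ f.ker : Subgroup X) := by
    intro l hl hd
    have h1 : σ l ∣ Nat.card (⊤ ⊓ f.ker : Subgroup X) := by rw [htop]; exact hd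
    refine dvd_card_cent (h.sig.prime l) (C.isPGroup_hall (h.sig.prime l)) ((C.hall_le _).trans inf_le_right)
      (hfix _ (h.sig.prime l) ?_ (h.sig.ne_two l) _ (C.isPGroup_hall (h.sig.prime l))
        (C.hall_ne_bot (h.sig.prime l) h1) (C.norm _))
    rw [← h.sig.zero]; exact h.sig.ne hl
  have hi0 : i ≠ 0 := by rintro rfl; exact h3 (h.sig.zero ▸ hi)
  have hj0 : j ≠ 0 := by rintro rfl; exact h3 (h.sig.zero ▸ hj)
  obtain ⟨y, -, hfy, hxy⟩ := exists_comm_in (f := f) (P := ⊤) (a := x) (mem_top _) (by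
    rw [hxo, htop]; exact (Nat.Prime.coprime_iff_not_dvd Nat.prime_three).mpr h3) (y := a)
    (by rw [h.toM0.top_map]; exact mem_top _) (by rw [hfx]; exact mem_cent_iff.mp (hAg ha))
  have hcw : σ w ∣ Nat.card (centralizer {x} : Subgroup X) := by
    have h1 : orderOf a ∣ orderOf y := by rw [← hfy]; exact orderOf_map_dvd f y
    rw [← hao]
    exact h1.trans (orderOf_dvd_card_of_mem (mem_cent_iff.mpr hxy))
  have T := h.sig.tri hij hwi.symm hwj.symm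
  have hc3 : ∀ l : Fin 5, l ≠ 0 → cls m 3 ≠ cls m (σ l) := fun l hl => by
    rw [cls_three, h.sig.cls]; exact hl.symm
  exact h.cl.no_cent_coclique T Nat.prime_three (by norm_num) (hc3 i hi0) (hc3 j hj0) (hc3 w hw0) hxo
    (D := centralizer {x}) (N := centralizer {x} ⊓ f.ker) le_rfl (h.toM0.hs _) inf_le_left
    (Cov.le_normalizer_ker _ _) (hdvd i hi0 hi) (hdvd j hj0 hj) hcw

theorem M1.c7 (h : M1 m σ f K) {s : ℕ} (hK : IsL2 s 1 K) : K.index = 1 := by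
  have := h.normal
  obtain ⟨A, -, hAK, hAK', hd, -, -, -⟩ := l2_ext hK h.cent h.index
  rw [← C59.card_eq hAK hAK']
  exact Nat.dvd_one.mp hd

theorem M1.c8 (h : M1 m σ f K) (C : Cov f ⊤ K P H) {i j w : Fin 5} (hij : i ≠ j)
    (hwi : w ≠ i) (hwj : w ≠ j) (hi : σ i ∣ Nat.card (P ⊓ f.ker : Subgroup X))
    (hj : σ j ∣ Nat.card (P ⊓ f.ker : Subgroup X)) (hw : σ w ∣ Nat.card f.ker) : False :=
  h.toM0.no_two C (IsK.perfect h.isK) (fun _ hℓ hℓ2 => noMult h.isK hℓ hℓ2) (h.sig.tri hij hwi.symm hwj.symm)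
    hi hj (by rw [top_inf_eq]; exact hw)

theorem M1.c9 (h : M1 m σ f K) {s e : ℕ} (hK : IsL2 s e K) (C : Cov f ⊤ K P H) {r i j l : Fin 5}
    (hr : σ r ∣ s ^ e - 1) (hrP : ¬ σ r ∣ Nat.card (P ⊓ f.ker : Subgroup X)) (hij : i ≠ j) (hil : i ≠ l) (hjl : j ≠ l)
    (hir : i ≠ r) (hjr : j ≠ r) (hlr : l ≠ r) (his : σ i ≠ s) (hjs : σ j ≠ s) (hls : σ l ≠ s)
    (hi : σ i ∣ Nat.card f.ker) (hj : σ j ∣ Nat.card f.ker) (hl : σ l ∣ Nat.card f.ker) : False := by
  have hsp : s.Prime := hK.psl.1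
  have hsr : s ≠ σ r := by
    rintro rfl
    have he : e ≠ 0 := hK.odd.pos.ne'
    have h1 : σ r ∣ σ r ^ e := dvd_pow_self _ he
    have h2 : σ r ∣ 1 := by
      have h3 : 1 ≤ σ r ^ e := Nat.one_le_pow _ _ hsp.pos
      have := (Nat.dvd_sub h1 hr)
      rwa [Nat.sub_sub_self h3] at this
    exact hsp.one_lt.ne' (Nat.dvd_one.mp h2)
  obtain ⟨x, -, hxo, -, hfix⟩ := h.toM0.pivot C (IsK.simple h.isK) le_rfl hsp (h.sig.prime r) hsr
    (IsPSL.piv hK.psl (h.sig.prime r) (h.sig.ne_two r) hr) hrP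
  have hdvd : ∀ t : Fin 5, t ≠ r → σ t ≠ s → σ t ∣ Nat.card f.ker →
      σ t ∣ Nat.card (centralizer {x} ⊓ f.ker : Subgroup X) := fun t ht hts hd =>
    hfix _ (h.sig.prime t) (h.sig.ne ht) hts (by rw [top_inf_eq]; exact hd)
  have hc : ∀ t : Fin 5, t ≠ r → cls m (σ r) ≠ cls m (σ t) := fun t ht => by
    rw [h.sig.cls, h.sig.cls]; exact ht.symm
  exact h.toM0.no_three (h.sig.tri hij hil hjl) (h.sig.prime r) (h.sig.ne_two r) (hc i hir) (hc j hjr) (hc l hlr) hxo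
    (hdvd i hir his hi) (hdvd j hjr hjs hj) (hdvd l hlr hls hl)

end Cfsg.Agent.H389.RSq
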