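import Cfsg.Agent.H389.R.W5

/-!
# S3530: one component of linear type, parts c10, c11 (helper349)
-/

set_option autoImplicit false
set_option linter.unusedSectionVars false

namespace Cfsg.Agent.H389.RSq

open Subgroup
open Cfsg.Agent.H389.JSq (Has)
open Cfsg.Agent.H381.Tools
open Cfsg.Agent.OddOrderLocal.HallPi

universe u

variable {m : ℕ} {σ : Fin 5 → ℕ} {X Y : Type u} [Group X] [Finite X] [Group Y] [Finite Y] {f : X →* Y}
  {D P : Subgroup X} {E K L : Subgroup Y} {H : Set ℕ → Subgroup X}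

namespace C1011

/-- two elements of `P` of order prime to `|P ⊓ ker f|` with the same image are conjugate in `P` -/
theorem conj_in {P : Subgroup X} {a b : X} (haP : a ∈ P) (hbP : b ∈ P)
    (ha : (orderOf a).Coprime (Nat.card (P ⊓ f.ker : Subgroup X)))
    (hb : (orderOf b).Coprime (Nat.card (P ⊓ f.ker : Subgroup X))) (hab : f a = f b) :
    ∃ n ∈ P, n * a * n⁻¹ = b := by
  have hcard : Nat.card (f.comp P.subtype).ker = Nat.card (P ⊓ f.ker : Subgroup X) := by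
    have : (f.comp P.subtype).ker.map P.subtype = P ⊓ f.ker := by
      ext z
      constructor
      · rintro ⟨w, hw, rfl⟩
        exact ⟨w.2, hw⟩
      · rintro ⟨hz, hzk⟩
        exact ⟨⟨z, hz⟩, hzk, rfl⟩
    rw [← this]
    exact Nat.card_congr ((f.comp P.subtype).ker.equivMapOfInjective _ P.subtype_injective).toEquiv
  obtain ⟨⟨n, hnP⟩, -, hn⟩ := JSq.conj_of_map_eq (f.comp P.subtype) (a := ⟨a, haP⟩) (b := ⟨b, hbP⟩)
    (by rw [hcard, ← Subgroup.orderOf_coe]; exact ha) (by rw [hcard, ← Subgroup.orderOf_coe]; exact hb) hab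
  exact ⟨n, hnP, congrArg Subtype.val hn⟩

/-- powers generating the same subgroup have the same centralizer -/
theorem fix_pow {Q : Subgroup X} {s : ℕ} (hs : s.Prime) {e u : X} (he : orderOf e = s) (hu : u ∈ zpowers e)
    (hu1 : u ≠ 1) (hfix : Q ⊓ centralizer {u} ≠ ⊥) : Q ⊓ centralizer {e} ≠ ⊥ := by
  have : Fact s.Prime := ⟨hs⟩
  have h1 : orderOf u = s := by
    have h2 : orderOf u ∣ s := by rw [← he]; exact orderOf_dvd_of_mem_zpowers hu
    exact ((Nat.dvd_prime hs).mp h2).resolve_left (fun h => hu1 (orderOf_eq_one_iff.mp h))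
  have h2 : zpowers u = zpowers e := by
    apply Subgroup.eq_of_le_of_card_ge (zpowers_le.mpr hu)
    rw [Nat.card_zpowers, Nat.card_zpowers, he, h1]
  have h3 : e ∈ zpowers u := by rw [h2]; exact mem_zpowers e
  obtain ⟨n, hn⟩ := mem_zpowers_iff.mp h3
  intro h0
  apply hfix
  rw [eq_bot_iff, ← h0]
  intro x hx
  rw [mem_fix] at hx ⊢
  refine ⟨hx.1, ?_⟩
  rw [← hn]
  exact hx.2.zpow_left n

/-- conjugation -/
theorem fix_conj {P Q : Subgroup X} (hPQ : P ≤ normalizer (Q : Set X)) {e t : X} (ht : t ∈ P)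
    (hfix : Q ⊓ centralizer {e} ≠ ⊥) : Q ⊓ centralizer {t * e * t⁻¹} ≠ ⊥ := by
  intro h0
  apply hfix
  rw [eq_bot_iff]
  intro x hx
  rw [mem_fix] at hx
  have h1 : t * x * t⁻¹ ∈ Q ⊓ centralizer {t * e * t⁻¹} := by
    rw [mem_fix]
    refine ⟨(mem_normalizer_iff.mp (hPQ ht) x).mp hx.1, ?_⟩
    exact hx.2.map (MulAut.conj t).toMonoidHom
  rw [h0, mem_bot] at h1
  rw [mem_bot]
  have h2 : t * x * t⁻¹ = 1 := h1
  calc x = t⁻¹ * (t * x * t⁻¹) * t := by group
    _ = 1 := by rw [h2]; group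

theorem map_ne_one {P : Subgroup X} {s : ℕ} (hs : s.Prime) (hsP : ¬ s ∣ Nat.card (P ⊓ f.ker : Subgroup X)) {e : X}
    (heP : e ∈ P) (he : orderOf e = s) : orderOf (f e) = s := by
  have h1 : orderOf (f e) ∣ s := by rw [← he]; exact orderOf_map_dvd f e
  refine ((Nat.dvd_prime hs).mp h1).resolve_left (fun h => hsP ?_)
  rw [← he]
  exact orderOf_dvd_card_of_mem (mem_inf.mpr ⟨heP, orderOf_eq_one_iff.mp h⟩)

/-- all the elements of order `s` of `P` are equivalent -/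
theorem fix_all {s e : ℕ} (hK : IsL2 s e K) (hs2 : s ≠ 2) (C : Cov f ⊤ K P H)
    (hsP : ¬ s ∣ Nat.card (P ⊓ f.ker : Subgroup X)) {Q : Subgroup X} (hPQ : P ≤ normalizer (Q : Set X)) {x y : X}
    (hx : x ∈ P) (hy : y ∈ P) (hxo : orderOf x = s) (hyo : orderOf y = s) (hfix : Q ⊓ centralizer {x} ≠ ⊥) :
    Q ⊓ centralizer {y} ≠ ⊥ := by
  have hs : s.Prime := hK.psl.1
  have hcop : s.Coprime (Nat.card (P ⊓ f.ker : Subgroup X)) := (Nat.Prime.coprime_iff_not_dvd hs).mpr hsP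
  have hfx := map_ne_one hs hsP hx hxo
  have hfy := map_ne_one hs hsP hy hyo
  have hxK : f x ∈ K := by rw [← C.map]; exact mem_map_of_mem f hx
  have hyK : f y ∈ K := by rw [← C.map]; exact mem_map_of_mem f hy
  obtain ⟨⟨g, hgK⟩, hg⟩ := hK.conj_char hs2 (x := ⟨f x, hxK⟩) (y := ⟨f y, hyK⟩)
    (by rw [← Subgroup.orderOf_coe]; exact hfx) (by rw [← Subgroup.orderOf_coe]; exact hfy)
  obtain ⟨n, hn⟩ := mem_zpowers_iff.mp hg
  have hn' : f y ^ n = g * f x * g⁻¹ := by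
    have := congrArg Subtype.val hn
    simpa using this
  have hgP : g ∈ P.map f := by rw [C.map]; exact hgK
  obtain ⟨t, ht, rfl⟩ := hgP
  have hyn : y ^ n ∈ P := zpow_mem hy n
  have htx : t * x * t⁻¹ ∈ P := mul_mem (mul_mem ht hx) (inv_mem ht)
  have hto : orderOf (t * x * t⁻¹) = s := by rw [← hxo]; exact (MulAut.conj t).orderOf_eq x
  have heq : f (t * x * t⁻¹) = f (y ^ n) := by
    rw [map_mul, map_mul, map_inv, map_zpow, hn']
  have hyn1 : y ^ n ≠ 1 := by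
    intro h1
    rw [h1, map_one] at heq
    have := map_ne_one (f := f) hs hsP htx hto
    rw [heq, orderOf_one] at this
    exact hs.one_lt.ne this
  have hyno : orderOf (y ^ n) = s := by
    have h2 : orderOf (y ^ n) ∣ s := by rw [← hyo]; exact orderOf_dvd_of_mem_zpowers (zpow_mem (mem_zpowers y) n)
    exact ((Nat.dvd_prime hs).mp h2).resolve_left (fun h => hyn1 (orderOf_eq_one_iff.mp h))
  obtain ⟨z, hz, hzc⟩ := conj_in htx hyn (f := f) (by rw [hto]; exact hcop) (by rw [hyno]; exact hcop) heq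
  have h1 := fix_conj hPQ hz (fix_conj hPQ ht hfix)
  rw [hzc] at h1
  exact fix_pow hs hyo (zpow_mem (mem_zpowers y) n) hyn1 h1

end C1011

theorem M1.c10 (h : M1 m σ f K) {s e : ℕ} (hK : IsL2 s e K) (C : Cov f ⊤ K P H) (he : e ≠ 1) {r i j l : Fin 5}
    (hrs : σ r = s) (hrP : ¬ s ∣ Nat.card (P ⊓ f.ker : Subgroup X)) (hij : i ≠ j) (hil : i ≠ l) (hjl : j ≠ l)
    (hir : i ≠ r) (hjr : j ≠ r) (hlr : l ≠ r)
    (hi : σ i ∣ Nat.card f.ker) (hj : σ j ∣ Nat.card f.ker) (hl : σ l ∣ Nat.card f.ker) : False := by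
  have hs : s.Prime := hK.psl.1
  have hs2 : s ≠ 2 := by rw [← hrs]; exact h.sig.ne_two r
  have hcop : s.Coprime (Nat.card (P ⊓ f.ker : Subgroup X)) := (Nat.Prime.coprime_iff_not_dvd hs).mpr hrP
  obtain ⟨⟨a, haK⟩, ⟨b, hbK⟩, hao, hbo, hab, hne⟩ := hK.exists_pair hs2 he
  rw [← Subgroup.orderOf_coe] at hao hbo
  have hab' : Commute a b := congrArg Subtype.val hab
  have haP : a ∈ P.map f := by rw [C.map]; exact haK
  have hbP : b ∈ P.map f := by rw [C.map]; exact hbK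
  obtain ⟨x, hx, hfx, hxo⟩ := exists_lift_in (f := f) haP hao hcop
  obtain ⟨y₀, hy₀, hfy₀, hxy₀⟩ := exists_comm_in (f := f) hx (by rw [hxo]; exact hcop) hbP (by rw [hfx]; exact hab')
  have hbP' : b ∈ (P ⊓ centralizer {x}).map f := ⟨y₀, mem_fix.mpr ⟨hy₀, hxy₀⟩, hfy₀⟩
  obtain ⟨y, hy, hfy, hyo⟩ := exists_lift_in (f := f) hbP' hbo (by
    apply Nat.Coprime.coprime_dvd_right _ hcop
    exact card_dvd_of_le (inf_le_inf_right _ inf_le_left))
  rw [mem_fix] at hy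
  have hyx : y ∉ zpowers x := by
    intro hc
    obtain ⟨n, hn⟩ := mem_zpowers_iff.mp hc
    apply hne
    refine mem_zpowers_iff.mpr ⟨n, Subtype.ext ?_⟩
    have : a ^ n = b := by rw [← hfx, ← hfy, ← hn, map_zpow]
    simpa using this
  have key : ∀ t : Fin 5, t ≠ r → σ t ∣ Nat.card f.ker →
      σ t ∣ Nat.card (centralizer {x} ⊓ f.ker : Subgroup X) := by
    intro t htr hd
    have h1 : σ t ∣ Nat.card (⊤ ⊓ f.ker : Subgroup X) := by rw [top_inf_eq]; exact hd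
    have hp := C.isPGroup_hall (h.sig.prime t)
    obtain ⟨c, hc, hco, hfix⟩ := exists_fixed hs hxo hyo hy.2 hyx (H {σ t})
      (not_dvd_card (h.sig.prime t) hs (by rw [← hrs]; exact (h.sig.ne htr).symm) hp)
      (C.hall_ne_bot (h.sig.prime t) h1) (C.norm _ hx) (C.norm _ hy.1)
    have hcP : c ∈ P := (sup_le (zpowers_le.mpr hx) (zpowers_le.mpr hy.1)) hc
    exact dvd_card_cent (h.sig.prime t) hp ((C.hall_le _).trans inf_le_right)
      (C1011.fix_all hK hs2 C hrP (C.norm _) hcP hx hco hxo hfix)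
  have hc : ∀ t : Fin 5, t ≠ r → cls m s ≠ cls m (σ t) := fun t ht => by
    rw [← hrs, h.sig.cls, h.sig.cls]; exact ht.symm
  exact h.toM0.no_three (h.sig.tri hij hil hjl) hs hs2 (hc i hir) (hc j hjr) (hc l hlr) hxo
    (key i hir hi) (key j hjr hj) (key l hlr hl)

theorem M1.c11 (h : M1 m σ f K) {s e : ℕ} (hK : IsL2 s e K) (C : Cov f ⊤ K P H) {p q i j l : Fin 5}
    (hpq : p ≠ q) (hp : σ p ∣ s ^ e + 1) (hq : σ q ∣ s ^ e + 1) (hpP : ¬ σ p ∣ Nat.card (P ⊓ f.ker : Subgroup X))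
    (hqP : ¬ σ q ∣ Nat.card (P ⊓ f.ker : Subgroup X)) (hij : i ≠ j) (hil : i ≠ l) (hjl : j ≠ l)
    (hip : i ≠ p) (hjp : j ≠ p) (hlp : l ≠ p) (hiq : i ≠ q) (hjq : j ≠ q) (hlq : l ≠ q)
    (hi : σ i ∣ Nat.card f.ker) (hj : σ j ∣ Nat.card f.ker) (hl : σ l ∣ Nat.card f.ker) : False := by
  have S := h.sig
  obtain ⟨⟨x₀, hx₀K⟩, hx₀⟩ := hK.psl.has_mul (S.prime p) (S.prime q) (S.ne_two p) (S.ne_two q) (S.ne hpq)
    (Or.inr ⟨hp, hq⟩)
  have hx₀' : orderOf x₀ = σ p * σ q := by rw [← hx₀, ← Subgroup.orderOf_coe]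
  have hx₀P : x₀ ∈ P.map f := by rw [C.map]; exact hx₀K
  have hcop : (σ p * σ q).Coprime (Nat.card (P ⊓ f.ker : Subgroup X)) :=
    Nat.Coprime.mul_left ((Nat.Prime.coprime_iff_not_dvd (S.prime p)).mpr hpP)
      ((Nat.Prime.coprime_iff_not_dvd (S.prime q)).mpr hqP)
  obtain ⟨x, hx, hfx, hxo⟩ := exists_lift_in (f := f) hx₀P hx₀' hcop
  have hxp : orderOf (x ^ σ q) = σ p := by
    rw [orderOf_pow_of_dvd (S.prime q).ne_zero (by rw [hxo]; exact Dvd.intro_left _ rfl), hxo,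
      Nat.mul_div_cancel _ (S.prime q).pos]
  have hxq : orderOf (x ^ σ p) = σ q := by
    rw [orderOf_pow_of_dvd (S.prime p).ne_zero (by rw [hxo]; exact Dvd.intro _ rfl), hxo,
      Nat.mul_div_cancel_left _ (S.prime p).pos]
  have hfree : ∀ t : Fin 5, t ≠ p → t ≠ q → H {σ t} ⊓ centralizer {x} = ⊥ := by
    intro t htp htq
    by_contra hne
    obtain ⟨y, hy, hyo⟩ := exists_mem_of_ne_bot (S.prime t)
      ((C.isPGroup_hall (S.prime t)).to_le inf_le_left) hne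
    rw [mem_fix] at hy
    exact h.cl.no_comm (S.tri hpq htp.symm htq.symm) hxp hxq hyo ((Commute.refl x).pow_pow _ _)
      (hy.2.pow_left _) (hy.2.pow_left _)
  have hmin : ∀ C' ≤ P, (∀ g ∈ P, g * x ^ σ p * g⁻¹ ∈ C' ∨ g * x ^ σ q * g⁻¹ ∈ C') → C' = P := by
    intro C' hC' hall
    apply C.min C' hC'
    apply le_antisymm
    · rw [← C.map]; exact map_mono hC'
    · rw [← subgroupOf_eq_top]
      refine hK.eq_top_of_torus (S.prime p) (S.prime q) (S.ne_two p) (S.ne_two q) (S.ne hpq) hp hq hx₀ ?_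
      rintro ⟨g, hg⟩
      have hgP : g ∈ P.map f := by rw [C.map]; exact hg
      obtain ⟨t, ht, rfl⟩ := hgP
      rcases hall t ht with h1 | h1
      · left
        rw [mem_subgroupOf]
        have h2 := mem_map_of_mem f h1
        rw [map_mul, map_mul, map_inv, map_pow, hfx] at h2
        exact h2
      · right
        rw [mem_subgroupOf]
        have h2 := mem_map_of_mem f h1
        rw [map_mul, map_mul, map_inv, map_pow, hfx] at h2
        exact h2
  have hX : ∀ t t' : Fin 5, t ≠ t' → t ≠ p → t ≠ q → t' ≠ p → t' ≠ q →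
      H {σ t} ≤ centralizer ((H {σ t'} : Subgroup X) : Set X) := by
    intro t t' htt htp htq htp' htq'
    have hsub1 : ({σ t} : Set ℕ) ⊆ {σ t, σ t'} := by
      rw [Set.singleton_subset_iff]; exact Set.mem_insert _ _
    have hsub2 : ({σ t'} : Set ℕ) ⊆ {σ t, σ t'} := by
      rw [Set.singleton_subset_iff]; exact Set.mem_insert_of_mem _ (Set.mem_singleton _)
    have hKle := C.hall_le ({σ t, σ t'} : Set ℕ)
    have hidx : ∀ w : Fin 5, H {σ w} ≤ H {σ t, σ t'} → ¬ σ w ∣ (H {σ w}).relIndex (H {σ t, σ t'}) := by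
      intro w hw hd
      refine (C.hall {σ w}).2.2 (σ w) (S.prime w) (Set.mem_singleton _) (hd.trans ?_)
      rw [← relIndex_mul_relIndex _ _ _ hw hKle]
      exact Dvd.intro _ rfl
    refine lemX (K := H {σ t, σ t'}) (S.prime t) (S.prime t') (S.ne htt) (S.prime p) (S.prime q) (S.ne hpq)
      (S.ne htp) (S.ne htq) (S.ne htp') (S.ne htq') (C.isPGroup_hall (S.prime t)) (C.isPGroup_hall (S.prime t'))
      (C.mono _ _ hsub1) (C.mono _ _ hsub2) (hidx t (C.mono _ _ hsub1)) (hidx t' (C.mono _ _ hsub2)) ?_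
      (C.norm _) (C.norm _) (C.norm _) hx hxo (hfree t htp htq) (hfree t' htp' htq') hmin
    intro r hr hd
    have := (C.hall ({σ t, σ t'} : Set ℕ)).2.1 r hr hd
    simpa using this
  have helt : ∀ t : Fin 5, σ t ∣ Nat.card f.ker → ∃ y ∈ H {σ t}, orderOf y = σ t := by
    intro t hd
    exact exists_mem_of_ne_bot (S.prime t) (C.isPGroup_hall (S.prime t))
      (C.hall_ne_bot (S.prime t) (by rw [top_inf_eq]; exact hd))
  obtain ⟨u, hu, huo⟩ := helt i hi
  obtain ⟨v, hv, hvo⟩ := helt j hj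
  obtain ⟨w, hw, hwo⟩ := helt l hl
  have hcomm : ∀ t t' : Fin 5, t ≠ t' → t ≠ p → t ≠ q → t' ≠ p → t' ≠ q → ∀ a ∈ H {σ t}, ∀ b ∈ H {σ t'},
      Commute a b := by
    intro t t' htt htp htq htp' htq' a ha b hb
    exact (mem_centralizer_iff.mp (hX t t' htt htp htq htp' htq' ha) b hb).symm
  exact h.cl.no_comm (S.tri hij hil hjl) huo hvo hwo (hcomm i j hij hip hiq hjp hjq u hu v hv)
    (hcomm i l hil hip hiq hlp hlq u hu w hw) (hcomm j l hjl hjp hjq hlp hlq v hv w hw)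

end Cfsg.Agent.H389.RSq
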